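import Cfsg.Agent.H769.OZ.SpEl
import Cfsg.Agent.H206.PspFix

/-!
# S4829, `p = 2`, `PSp_4(2^f)`, `f = 2 mod 4`: a 3-group without fixed vertices (helper637)

`exists_three` : `Q ≤ C(φ)` a 3-group which fixes no vertex of the building which `φ` fixes.
-/

set_option autoImplicit false
set_option linter.unusedSectionVars false

namespace Cfsg.Agent.H637.CY

open Cfsg Cfsg.Agent.ChevalleyStructure.CoxeterGeom Cfsg.Agent.Tits.Roots Cfsg.Agent.Nodes.TypeC
open Cfsg.Agent.Nodes Cfsg.Agent.Nodes.Comb Cfsg.Agent.Nodes.Reps Cfsg.Agent.Nodes.WittRoot Cfsg.Agent.Nodes.BNOf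
open Cfsg.Agent.Nodes.WittRGD Cfsg.Agent.Nodes.RGDLib Cfsg.Agent.Nodes.WittAll Cfsg.Agent.Nodes.StabComb
open Cfsg.Agent.Nodes.Bruhat Cfsg.Agent.Nodes.OppDec Cfsg.Agent.Nodes.LeviDec
open Cfsg.Agent.TitsThree Cfsg.Agent.TitsThree.Siegel Cfsg.Agent.TitsThree.WittFrame
  Cfsg.Agent.TitsThree.WittWeyl Cfsg.Agent.TitsThree.FrameCN Cfsg.Agent.TitsThree.SpIdent
open Cfsg.Agent.H985.VZ Cfsg.Agent.ClassicalGeometry Cfsg.Agent.H769.OZ Cfsg.Agent.H206.PspFix
open Cfsg.Agent.ClassicalGeometry.SympBasic Cfsg.Agent.ClassicalGeometry.SympAutSemi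
  Cfsg.Agent.ClassicalGeometry.SympGamma
open scoped Matrix

universe u

section twist

variable {F : Type u} [Field F] {m : ℕ}

/-- the conjugate of an isometry by a field automorphism -/
def twl (σ : F ≃+* F) (g : (Fin m ⊕ Fin m → F) ≃ₗ[F] (Fin m ⊕ Fin m → F)) :
    (Fin m ⊕ Fin m → F) ≃ₗ[F] (Fin m ⊕ Fin m → F) where
  toFun v := fun i => σ (g (fun j => σ.symm (v j)) i)
  invFun v := fun i => σ (g.symm (fun j => σ.symm (v j)) i)
  map_add' v w := by
    funext i
    have e : (fun j => σ.symm ((v + w) j)) = (fun j => σ.symm (v j)) + fun j => σ.symm (w j) := by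
      funext j
      rw [Pi.add_apply, Pi.add_apply, map_add]
    rw [e, map_add, Pi.add_apply, Pi.add_apply, map_add]
  map_smul' c v := by
    funext i
    have e : (fun j => σ.symm ((c • v) j)) = σ.symm c • fun j => σ.symm (v j) := by
      funext j
      rw [Pi.smul_apply, Pi.smul_apply, smul_eq_mul, smul_eq_mul, map_mul]
    rw [e, map_smul, Pi.smul_apply, smul_eq_mul, map_mul, σ.apply_symm_apply]
    rfl
  left_inv v := by
    funext i
    have e : (fun j => σ.symm ((fun i => σ (g (fun j => σ.symm (v j)) i)) j)) = g (fun j => σ.symm (v j)) := by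
      funext j
      exact σ.symm_apply_apply _
    change σ (g.symm (fun j => σ.symm ((fun i => σ (g (fun j => σ.symm (v j)) i)) j)) i) = v i
    rw [e, g.symm_apply_apply, σ.apply_symm_apply]
  right_inv v := by
    funext i
    have e : (fun j => σ.symm ((fun i => σ (g.symm (fun j => σ.symm (v j)) i)) j)) = g.symm (fun j => σ.symm (v j)) := by
      funext j
      exact σ.symm_apply_apply _
    change σ (g (fun j => σ.symm ((fun i => σ (g.symm (fun j => σ.symm (v j)) i)) j)) i) = v i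
    rw [e, g.apply_symm_apply, σ.apply_symm_apply]

theorem twl_apply (σ : F ≃+* F) (g : (Fin m ⊕ Fin m → F) ≃ₗ[F] (Fin m ⊕ Fin m → F)) (v : Fin m ⊕ Fin m → F)
    (i : Fin m ⊕ Fin m) : twl σ g v i = σ (g (fun j => σ.symm (v j)) i) := rfl

theorem sympForm_map (σ : F ≃+* F) (v w : Fin m ⊕ Fin m → F) :
    sympForm m F (fun j => σ (v j)) (fun j => σ (w j)) = σ (sympForm m F v w) := by
  have h := (isSemi_frobPerm (m := m) σ).2.2 v w
  rw [one_mul] at h
  exact h

theorem twl_mem (σ : F ≃+* F) {g : (Fin m ⊕ Fin m → F) ≃ₗ[F] (Fin m ⊕ Fin m → F)} (hg : g ∈ isos (form m F)) :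
    twl σ g ∈ isos (form m F) := by
  intro v w
  have h1 : twl σ g v = fun j => σ (g (fun j => σ.symm (v j)) j) := rfl
  have h2 : twl σ g w = fun j => σ (g (fun j => σ.symm (w j)) j) := rfl
  have h3 : sympForm m F (g (fun j => σ.symm (v j))) (g (fun j => σ.symm (w j))) =
      sympForm m F (fun j => σ.symm (v j)) (fun j => σ.symm (w j)) := hg _ _
  show sympForm m F (twl σ g v) (twl σ g w) = sympForm m F v w
  rw [h1, h2, sympForm_map, h3, ← sympForm_map]
  congr 1
  · funext j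
    exact σ.apply_symm_apply _
  · funext j
    exact σ.apply_symm_apply _

/-- **the field automorphism on isometries** -/
theorem phi_toPSp (σ : F ≃+* F) (g : isos (form m F)) :
    phi m F σ (toPSp g) = toPSp ⟨twl σ g.1, twl_mem σ g.2⟩ := by
  have h1 : conjHom m F (frobHom m F σ) (toSp g) = toSp ⟨twl σ g.1, twl_mem σ g.2⟩ := by
    apply rho_injective
    ext1 v
    rw [rho_conjHom, Equiv.Perm.mul_apply, Equiv.Perm.mul_apply, rho_apply, rho_apply, toSp_mulVec, toSp_mulVec]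
    rfl
  show Psi m F (frobHom m F σ) (QuotientGroup.mk (toSp g)) = QuotientGroup.mk (toSp ⟨twl σ g.1, twl_mem σ g.2⟩)
  rw [Psi_mk, h1]

end twist

section four

variable {F : Type u} [Field F] [CharP F 2]

/-- an element of order three on the first plane -/
def rA : V4 F ≃ₗ[F] V4 F where
  toFun v := mk4 (v (Sum.inr 0)) (v (Sum.inl 1)) (v (Sum.inl 0) + v (Sum.inr 0)) (v (Sum.inr 1))
  invFun v := mk4 (v (Sum.inl 0) + v (Sum.inr 0)) (v (Sum.inl 1)) (v (Sum.inl 0)) (v (Sum.inr 1))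
  map_add' v w := by apply ext4 <;> simp <;> ring
  map_smul' c v := by apply ext4 <;> simp <;> ring
  left_inv v := by
    apply ext4 <;> simp only [mk4_l0, mk4_l1, mk4_r0, mk4_r1]
    rw [add_comm (v (Sum.inl 0)), ← add_assoc, CharTwo.add_self_eq_zero, zero_add]
  right_inv v := by
    apply ext4 <;> simp only [mk4_l0, mk4_l1, mk4_r0, mk4_r1]
    rw [add_comm (v (Sum.inl 0)), add_assoc, CharTwo.add_self_eq_zero, add_zero]

/-- an element of order three on the second plane -/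
def rB : V4 F ≃ₗ[F] V4 F where
  toFun v := mk4 (v (Sum.inl 0)) (v (Sum.inr 1)) (v (Sum.inr 0)) (v (Sum.inl 1) + v (Sum.inr 1))
  invFun v := mk4 (v (Sum.inl 0)) (v (Sum.inl 1) + v (Sum.inr 1)) (v (Sum.inr 0)) (v (Sum.inl 1))
  map_add' v w := by apply ext4 <;> simp <;> ring
  map_smul' c v := by apply ext4 <;> simp <;> ring
  left_inv v := by
    apply ext4 <;> simp only [mk4_l0, mk4_l1, mk4_r0, mk4_r1]
    rw [add_comm (v (Sum.inl 1)), ← add_assoc, CharTwo.add_self_eq_zero, zero_add]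
  right_inv v := by
    apply ext4 <;> simp only [mk4_l0, mk4_l1, mk4_r0, mk4_r1]
    rw [add_comm (v (Sum.inl 1)), add_assoc, CharTwo.add_self_eq_zero, add_zero]

theorem rA_apply (v : V4 F) : rA v = mk4 (v (Sum.inr 0)) (v (Sum.inl 1)) (v (Sum.inl 0) + v (Sum.inr 0)) (v (Sum.inr 1)) :=
  rfl

theorem rB_apply (v : V4 F) : rB v = mk4 (v (Sum.inl 0)) (v (Sum.inr 1)) (v (Sum.inr 0)) (v (Sum.inl 1) + v (Sum.inr 1)) :=
  rfl

theorem two0 : (2 : F) = 0 := CharTwo.two_eq_zero

theorem rA_mem : (rA : V4 F ≃ₗ[F] V4 F) ∈ isos (form 2 F) := by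
  intro v w
  rw [form4, form4, rA_apply, rA_apply]
  simp only [mk4_l0, mk4_l1, mk4_r0, mk4_r1]
  linear_combination (v (Sum.inl 0) * w (Sum.inr 0) - v (Sum.inr 0) * w (Sum.inl 0)) * two0 (F := F)

theorem rB_mem : (rB : V4 F ≃ₗ[F] V4 F) ∈ isos (form 2 F) := by
  intro v w
  rw [form4, form4, rB_apply, rB_apply]
  simp only [mk4_l0, mk4_l1, mk4_r0, mk4_r1]
  linear_combination (v (Sum.inl 1) * w (Sum.inr 1) - v (Sum.inr 1) * w (Sum.inl 1)) * two0 (F := F)

/-- the two isometries -/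
def gA : isos (form 2 F) := ⟨rA, rA_mem⟩
def gB : isos (form 2 F) := ⟨rB, rB_mem⟩

theorem gA_cube : (gA : isos (form 2 F)) ^ 3 = 1 := by
  apply Subtype.ext
  ext1 v
  show rA (rA (rA v)) = v
  rw [rA_apply, rA_apply, rA_apply]
  apply ext4 <;> simp only [mk4_l0, mk4_l1, mk4_r0, mk4_r1]
  · linear_combination v (Sum.inr 0) * two0 (F := F)
  · linear_combination (v (Sum.inl 0) + v (Sum.inr 0)) * two0 (F := F)

theorem gB_cube : (gB : isos (form 2 F)) ^ 3 = 1 := by
  apply Subtype.ext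
  ext1 v
  show rB (rB (rB v)) = v
  rw [rB_apply, rB_apply, rB_apply]
  apply ext4 <;> simp only [mk4_l0, mk4_l1, mk4_r0, mk4_r1]
  · linear_combination v (Sum.inr 1) * two0 (F := F)
  · linear_combination (v (Sum.inl 1) + v (Sum.inr 1)) * two0 (F := F)

theorem gA_gB : (gA : isos (form 2 F)) * gB = gB * gA := by
  apply Subtype.ext
  ext1 v
  show rA (rB v) = rB (rA v)
  rw [rA_apply, rB_apply, rB_apply, rA_apply]
  apply ext4 <;> simp only [mk4_l0, mk4_l1, mk4_r0, mk4_r1]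

theorem twl_gA (σ : F ≃+* F) : (⟨twl σ (gA : isos (form 2 F)).1, twl_mem σ gA.2⟩ : isos (form 2 F)) = gA := by
  apply Subtype.ext
  ext1 v
  show twl σ rA v = rA v
  apply ext4 <;> rw [twl_apply, rA_apply, rA_apply] <;> simp

theorem twl_gB (σ : F ≃+* F) : (⟨twl σ (gB : isos (form 2 F)).1, twl_mem σ gB.2⟩ : isos (form 2 F)) = gB := by
  apply Subtype.ext
  ext1 v
  show twl σ rB v = rB v
  apply ext4 <;> rw [twl_apply, rB_apply, rB_apply] <;> simp

/-- a totally isotropic subspace invariant under `σ`, `rA`, `rB` is zero -/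
theorem key {σ : F ≃+* F} (hμ : ∀ μ : F, μ ^ 2 + μ + 1 = 0 → σ μ ≠ μ) (L : V4 F → Prop)
    (hadd : ∀ v w, L v → L w → L (v + w)) (hti : ∀ v w, L v → L w → (form 2 F).h v w = 0)
    (hσ : ∀ v, L v → L (fun j => σ (v j))) (hA : ∀ v, L v → L (rA v)) (hB : ∀ v, L v → L (rB v)) (w : V4 F) (hw : L w) :
    w = 0 := by
  have main : ∀ a b : F, b * b + a * a + a * b = 0 → b * σ a = a * σ b → a = 0 ∧ b = 0 := by
    intro a b h1 h2
    by_cases hb : b = 0
    · rw [hb] at h1
      simp at h1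
      exact ⟨h1, hb⟩
    · exfalso
      refine hμ (a / b) ?_ ?_
      · field_simp
        linear_combination h1
      · rw [map_div₀]
        have h3 : σ b ≠ 0 := by rwa [Ne, map_eq_zero_iff σ σ.injective]
        field_simp
        linear_combination h2
  have hA2 : w (Sum.inl 0) + w (Sum.inr 0) = 0 ∧ w (Sum.inl 0) = 0 := by
    have h1 := hadd _ _ (hA w hw) hw
    have h2 := hti _ _ h1 (hA _ h1)
    have h3 := hti _ _ h1 (hσ _ h1)
    rw [form4, rA_apply, rA_apply] at h2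
    rw [form4, rA_apply] at h3
    simp only [Pi.add_apply, mk4_l0, mk4_l1, mk4_r0, mk4_r1, map_add] at h2 h3
    refine main _ _ ?_ ?_
    · linear_combination h2 + (2 * (w (Sum.inl 0) * w (Sum.inl 0)) + 2 * (w (Sum.inl 0) * w (Sum.inr 0))) * two0 (F := F)
    · rw [map_add]
      linear_combination h3 + (w (Sum.inl 0) * σ (w (Sum.inr 0)) - σ (w (Sum.inl 0)) * w (Sum.inr 0) -
        2 * (w (Sum.inr 1) * σ (w (Sum.inl 1))) + 2 * (w (Sum.inl 1) * σ (w (Sum.inr 1)))) * two0 (F := F)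
  have hB2 : w (Sum.inl 1) + w (Sum.inr 1) = 0 ∧ w (Sum.inl 1) = 0 := by
    have h1 := hadd _ _ (hB w hw) hw
    have h2 := hti _ _ h1 (hB _ h1)
    have h3 := hti _ _ h1 (hσ _ h1)
    rw [form4, rB_apply, rB_apply] at h2
    rw [form4, rB_apply] at h3
    simp only [Pi.add_apply, mk4_l0, mk4_l1, mk4_r0, mk4_r1, map_add] at h2 h3
    refine main _ _ ?_ ?_
    · linear_combination h2 + (2 * (w (Sum.inl 1) * w (Sum.inl 1)) + 2 * (w (Sum.inl 1) * w (Sum.inr 1))) * two0 (F := F)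
    · rw [map_add]
      linear_combination h3 + (w (Sum.inl 1) * σ (w (Sum.inr 1)) - σ (w (Sum.inl 1)) * w (Sum.inr 1) -
        2 * (w (Sum.inr 0) * σ (w (Sum.inl 0))) + 2 * (w (Sum.inl 0) * σ (w (Sum.inr 0)))) * two0 (F := F)
  apply ext4
  · exact hA2.2
  · exact hB2.2
  · have := hA2.1
    rwa [hA2.2, zero_add] at this
  · have := hB2.1
    rwa [hB2.2, zero_add] at this

theorem mem_E_iso (k : Fin 2) {v : V4 F} (hv : v ∈ E (frame 2 F) k true) : v (Sum.inl 0) = 0 ∧ v (Sum.inl 1) = 0 := by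
  fin_cases k
  · have h := (mem_E0t (F := F)).1 hv
    exact ⟨h.1, h.2.1⟩
  · exact (mem_E1t (F := F)).1 hv

theorem E_map (σ : F ≃+* F) (k : Fin 2) {v : V4 F} (hv : v ∈ E (frame 2 F) k true) :
    (fun j => σ (v j)) ∈ E (frame 2 F) k true := by
  fin_cases k
  · obtain ⟨h1, h2, h3⟩ := (mem_E0t (F := F)).1 hv
    refine (mem_E0t (F := F)).2 ⟨?_, ?_, ?_⟩
    · show σ _ = 0
      rw [h1, map_zero]
    · show σ _ = 0
      rw [h2, map_zero]
    · show σ _ = 0
      rw [h3, map_zero]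
  · obtain ⟨h1, h2⟩ := (mem_E1t (F := F)).1 hv
    refine (mem_E1t (F := F)).2 ⟨?_, ?_⟩
    · show σ _ = 0
      rw [h1, map_zero]
    · show σ _ = 0
      rw [h2, map_zero]

/-- the parabolic subgroups as stabilisers -/
theorem mem_PJ_iff [Finite F] {W : Type*} [Group W] (cs : CoxeterSystem (CoxeterMatrix.B 2) W) (k : Fin 2)
    (g : isos (form 2 F)) : toPSp g ∈ PJ cs (isCartan 2) (WittModel.T (KInstSp.model 2 F))
      (WittModel.X (KInstSp.model 2 F)) ({k}ᶜ : Set (Fin 2)) ↔ g.1 ∈ StE (E (frame 2 F) k true) := by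
  have : Fact (Nat.Prime 2) := ⟨Nat.prime_two⟩
  have hA : AmbT (frame 2 F) 2 (KInstSp.model 2 F).I := AmbT.of_amb WittU.amb_Sp 2
  have hG : GG cs (isCartan 2) (WittModel.T (KInstSp.model 2 F)) (WittModel.X (KInstSp.model 2 F)) = ⊤ := by
    rw [eq_top_iff, ← WittModel.G1_eq_top (KInstSp.model 2 F) (by norm_num) cs]
    exact le_sup_right
  exact phi_mem_PJ_iff (KInstSp.model 2 F) cs hA (p0 := adm 1) one_ne_zero hG

/-- **(G2)** -/
theorem exists_three [Finite F] {W : Type*} [Group W] (cs : CoxeterSystem (CoxeterMatrix.B 2) W) {σ : F ≃+* F}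
    (hμ : ∀ μ : F, μ ^ 2 + μ + 1 = 0 → σ μ ≠ μ) : ∃ Q : Subgroup (PSp 2 F), IsPGroup 3 Q ∧
      (∀ q ∈ Q, phi 2 F σ q = q) ∧ ∀ (k : Fin 2) (y : PSp 2 F),
        y⁻¹ * phi 2 F σ y ∈ PJ cs (isCartan 2) (WittModel.T (KInstSp.model 2 F)) (WittModel.X (KInstSp.model 2 F))
          ({k}ᶜ : Set (Fin 2)) →
        ¬ ∀ q ∈ Q, y⁻¹ * q * y ∈ PJ cs (isCartan 2) (WittModel.T (KInstSp.model 2 F)) (WittModel.X (KInstSp.model 2 F))
          ({k}ᶜ : Set (Fin 2)) := by
  have : Fact (Nat.Prime 3) := ⟨Nat.prime_three⟩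
  let a : PSp 2 F := toPSp gA
  let b : PSp 2 F := toPSp gB
  have ha : a ^ 3 = 1 := by
    show (toPSp gA) ^ 3 = 1
    rw [← map_pow, gA_cube, map_one]
  have hb : b ^ 3 = 1 := by
    show (toPSp gB) ^ 3 = 1
    rw [← map_pow, gB_cube, map_one]
  have hab : a * b = b * a := by
    show toPSp gA * toPSp gB = toPSp gB * toPSp gA
    rw [← map_mul, gA_gB, map_mul]
  have hpa : ∀ x : PSp 2 F, x ^ 3 = 1 → IsPGroup 3 (Subgroup.zpowers x) := by
    intro x hx
    rintro ⟨_, n, rfl⟩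
    refine ⟨1, Subtype.ext ?_⟩
    show (x ^ n) ^ (3 ^ 1) = 1
    rw [pow_one, ← zpow_natCast, ← zpow_mul, mul_comm, zpow_mul, zpow_natCast, hx, one_zpow]
  have hfa : phi 2 F σ a = a := by
    show phi 2 F σ (toPSp gA) = toPSp gA
    rw [phi_toPSp, twl_gA]
  have hfb : phi 2 F σ b = b := by
    show phi 2 F σ (toPSp gB) = toPSp gB
    rw [phi_toPSp, twl_gB]
  refine ⟨Subgroup.zpowers a ⊔ Subgroup.zpowers b, ?_, ?_, ?_⟩
  · refine IsPGroup.to_sup_of_normal_right' (hpa a ha) (hpa b hb) ?_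
    rw [Subgroup.zpowers_le]
    refine Subgroup.mem_normalizer_iff.2 fun x => ?_
    have h2 : ∀ x ∈ Subgroup.zpowers b, a * x * a⁻¹ = x := by
      rintro _ ⟨n, rfl⟩
      have h3 : Commute a b := hab
      have h4 := h3.zpow_right n
      rw [h4.eq, mul_inv_cancel_right]
    constructor
    · intro hx
      rw [h2 x hx]
      exact hx
    · intro hx
      have h3 := h2 _ hx
      have h4 : a * x * a⁻¹ = x := by
        have h5 : a * (a * x * a⁻¹) * a⁻¹ = a * x * a⁻¹ := h3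
        exact mul_left_cancel (mul_right_cancel h5)
      rwa [h4] at hx
  · have h1 : Subgroup.zpowers a ⊔ Subgroup.zpowers b ≤ (phi 2 F σ).toMonoidHom.eqLocus (MonoidHom.id _) := by
      refine sup_le ?_ ?_
      · rw [Subgroup.zpowers_le]
        exact hfa
      · rw [Subgroup.zpowers_le]
        exact hfb
    exact fun q hq => h1 hq
  · intro k y hy hQ
    have h1 := hQ a (Subgroup.mem_sup_left (Subgroup.mem_zpowers a))
    have h2 := hQ b (Subgroup.mem_sup_right (Subgroup.mem_zpowers b))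
    obtain ⟨g, rfl⟩ := toPSp_surjective y
    have e1 : (toPSp g)⁻¹ * phi 2 F σ (toPSp g) = toPSp (g⁻¹ * ⟨twl σ g.1, twl_mem σ g.2⟩) := by
      rw [phi_toPSp, map_mul, map_inv]
    have e2 : (toPSp g)⁻¹ * a * toPSp g = toPSp (g⁻¹ * gA * g) := by
      rw [map_mul, map_mul, map_inv]
    have e3 : (toPSp g)⁻¹ * b * toPSp g = toPSp (g⁻¹ * gB * g) := by
      rw [map_mul, map_mul, map_inv]
    rw [e1, mem_PJ_iff] at hy
    rw [e2, mem_PJ_iff] at h1
    rw [e3, mem_PJ_iff] at h2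
    rw [mem_StE] at hy h1 h2
    -- the subspace
    have hw := key hμ (fun v => g.1.symm v ∈ E (frame 2 F) k true) ?_ ?_ ?_ ?_ ?_ (g.1 ((frame 2 F).b (0, true))) ?_
    · have h3 : g.1 ((frame 2 F).b (0, true)) = g.1 0 := by rw [hw, map_zero]
      have h4 := congrFun (g.1.injective h3) (Sum.inr 0)
      rw [e4] at h4
      simp at h4
    · intro v w hv hw
      show g.1.symm (v + w) ∈ _
      rw [map_add]
      exact add_mem hv hw
    · intro v w hv hw
      have h3 : (form 2 F).h (g.1 (g.1.symm v)) (g.1 (g.1.symm w)) = (form 2 F).h (g.1.symm v) (g.1.symm w) := g.2 _ _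
      rw [g.1.apply_symm_apply, g.1.apply_symm_apply] at h3
      obtain ⟨v0, v1⟩ := mem_E_iso k hv
      obtain ⟨w0, w1⟩ := mem_E_iso k hw
      rw [h3, form4, v0, v1, w0, w1]
      ring
    · intro v hv
      have h3 := (hy (fun j => σ (g.1.symm v j))).2 (E_map σ k hv)
      have h4 : (g⁻¹ * ⟨twl σ g.1, twl_mem σ g.2⟩ : isos (form 2 F)).1 (fun j => σ (g.1.symm v j)) =
          g.1.symm (fun j => σ (v j)) := by
        show g.1.symm (twl σ g.1 (fun j => σ (g.1.symm v j))) = _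
        congr 1
        funext i
        rw [twl_apply]
        have h5 : (fun j => σ.symm (σ (g.1.symm v j))) = g.1.symm v := by
          funext j
          exact σ.symm_apply_apply _
        rw [h5, g.1.apply_symm_apply]
      rwa [h4] at h3
    · intro v hv
      have h3 := (h1 (g.1.symm v)).2 hv
      have h4 : (g⁻¹ * gA * g : isos (form 2 F)).1 (g.1.symm v) = g.1.symm (rA v) := by
        show g.1.symm (rA (g.1 (g.1.symm v))) = _
        rw [g.1.apply_symm_apply]
      rwa [h4] at h3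
    · intro v hv
      have h3 := (h2 (g.1.symm v)).2 hv
      have h4 : (g⁻¹ * gB * g : isos (form 2 F)).1 (g.1.symm v) = g.1.symm (rB v) := by
        show g.1.symm (rB (g.1 (g.1.symm v))) = _
        rw [g.1.apply_symm_apply]
      rwa [h4] at h3
    · show g.1.symm (g.1 ((frame 2 F).b (0, true))) ∈ _
      rw [g.1.symm_apply_apply]
      exact b_mem_E (Fin.zero_le k) _

end four

section num

variable {F : Type u} [Field F] [CharP F 2]

/-- no primitive third root of unity in the fixed field -/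
theorem mu_of [Finite F] {σ : F ≃+* F} (h2 : σ * σ = 1) (h1 : σ ≠ 1) (h5 : 5 ∣ Nat.card F + 1) (μ : F)
    (hμ : μ ^ 2 + μ + 1 = 0) : σ μ ≠ μ := by
  classical
  intro hfix
  have := Fintype.ofFinite F
  have : Finite (F ≃+* F) :=
    Finite.of_injective (fun e : F ≃+* F => (e : F → F)) (fun a b h => RingEquiv.ext (congrFun h))
  let G := Subgroup.zpowers σ
  have hG : Nat.card G = 2 := by
    rw [Nat.card_zpowers]
    exact orderOf_eq_prime (by rw [pow_two]; exact h2) h1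
  have := Fintype.ofFinite G
  let K := FixedPoints.subfield G F
  have h3 : Module.finrank K F = 2 := by
    rw [FixedPoints.finrank_eq_card G F, ← Nat.card_eq_fintype_card, hG]
  have hKf : Finite K := Subtype.finite
  have := Fintype.ofFinite K
  have h4 : Nat.card F = Nat.card K ^ 2 := by
    rw [Nat.card_eq_fintype_card, Nat.card_eq_fintype_card, ← h3]
    exact Module.card_eq_pow_finrank
  have hμK : μ ∈ K := by
    rintro ⟨_, n, rfl⟩
    show (σ ^ n) μ = μ
    have h6 : σ ∈ MulAction.stabilizer (F ≃+* F) μ := hfix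
    exact zpow_mem h6 n
  have h0 : μ ≠ 0 := by
    rintro rfl
    simp at hμ
  have h1' : μ ≠ 1 := by
    rintro rfl
    have h7 : (1 : F) = 0 := by linear_combination hμ - two0 (F := F)
    exact one_ne_zero h7
  have h8 : μ ^ 3 = 1 := by linear_combination (μ - 1) * hμ
  let x : Kˣ := Units.mk0 ⟨μ, hμK⟩ (fun h => h0 (congrArg Subtype.val h))
  have hx : orderOf x = 3 := by
    have : Fact (Nat.Prime 3) := ⟨Nat.prime_three⟩
    refine orderOf_eq_prime ?_ ?_
    · apply Units.ext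
      apply Subtype.ext
      show μ ^ 3 = 1
      exact h8
    · intro h
      apply h1'
      exact congrArg Subtype.val (congrArg Units.val h)
  have h9 : 3 ∣ Nat.card K - 1 := by
    have h10 := orderOf_dvd_natCard x
    rw [hx, Nat.card_units] at h10
    exact h10
  have hch : CharP K 2 := by
    refine ⟨fun n => ?_⟩
    rw [← CharP.cast_eq_zero_iff F 2 n]
    constructor
    · intro h
      exact congrArg Subtype.val h
    · intro h
      exact Subtype.ext h
  obtain ⟨n, -, hn⟩ := FiniteField.card K 2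
  rw [Nat.card_eq_fintype_card (α := K), hn] at h9 h4
  have h10 : 1 ≤ 2 ^ (n : ℕ) := Nat.one_le_two_pow
  have h11 : ∀ k : ℕ, 2 ^ (2 * k) % 3 = 1 := by
    intro k
    rw [pow_mul, Nat.pow_mod]
    norm_num
  rcases Nat.even_or_odd (n : ℕ) with h12 | h12
  · obtain ⟨k, hk⟩ := h12
    have h13 : 2 ^ (n : ℕ) = 4 ^ k := by
      rw [hk, ← two_mul, pow_mul]
      norm_num
    have h14 : (2 ^ (n : ℕ)) ^ 2 = 16 ^ k := by
      rw [h13, ← pow_mul, mul_comm, pow_mul]
      norm_num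
    have h15 : 16 ^ k % 5 = 1 := by
      rw [Nat.pow_mod]
      norm_num
    rw [h4, h14] at h5
    omega
  · obtain ⟨k, hk⟩ := h12
    have h13 : 2 ^ (n : ℕ) = 2 * 2 ^ (2 * k) := by
      rw [hk, pow_succ, mul_comm]
    have h14 := h11 k
    rw [h13] at h9 h10
    omega

/-- **(G2)**, the form of helper48 -/
theorem gTwo [Fintype F] {W : Type*} [Group W] (cs : CoxeterSystem (CoxeterMatrix.B 2) W) {σ : F ≃+* F}
    (h2 : σ * σ = 1) (h1 : σ ≠ 1) (h5 : 5 ∣ Fintype.card F + 1) : ∃ Q : Subgroup (PSp 2 F), IsPGroup 3 Q ∧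
      (∀ q ∈ Q, phi 2 F σ q = q) ∧ ∀ (k : Fin 2) (y : PSp 2 F),
        y⁻¹ * phi 2 F σ y ∈ PJ cs (isCartan 2) (WittModel.T (KInstSp.model 2 F)) (WittModel.X (KInstSp.model 2 F))
          ({k}ᶜ : Set (Fin 2)) →
        ¬ ∀ q ∈ Q, y⁻¹ * q * y ∈ PJ cs (isCartan 2) (WittModel.T (KInstSp.model 2 F)) (WittModel.X (KInstSp.model 2 F))
          ({k}ᶜ : Set (Fin 2)) :=
  exists_three cs (mu_of h2 h1 (by rwa [Nat.card_eq_fintype_card]))

end num

end Cfsg.Agent.H637.CY
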