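import Cfsg.Agent.H601.R2.Base
import Cfsg.Agent.H704.Gow.Alt
import Cfsg.Agent.S2119

/-!
# S4829, `p = 2`: the alternating groups of degree at least 7 (helper637)

The characters `(n-1,1)`, `(n-2,2)`, `(n-2,1,1)` of `S_n` for `n` even, `n ≡ 1`, `n ≡ 3` modulo 4.
-/

set_option autoImplicit false

namespace Cfsg.Agent.H637.CY

open Cfsg Cfsg.Agent.H601.R2 Cfsg.Agent.H770.CY Cfsg.Agent.H621.AltChar MulAction
open Cfsg.Agent.Characters.Core Cfsg.Agent.Characters

universe u v

/-- transport of the witness -/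
theorem RatInv.congr {X : Type u} {Y : Type v} [Group X] [Group Y] (e : X ≃* Y) {B : Subgroup (MulAut X)}
    (h : RatInv Y (B.map (MulAut.congr e).toMonoidHom)) : RatInv X B := by
  obtain ⟨χ, h1, h2, ⟨d, hd, hd1⟩, h3, h4⟩ := h
  refine ⟨χ ∘ e, isIrr_comp (e : X →* Y) e.surjective h1, ?_, ⟨d, hd, ?_⟩, fun g => h3 (e g), ?_⟩
  · intro h5
    apply h2
    funext y
    have := congrFun h5 (e.symm y)
    simpa using this
  · rw [Function.comp_apply, map_one, hd1]
  · intro b hb x
    have h5 := h4 (MulAut.congr e b) (Subgroup.mem_map_of_mem _ hb) (e x)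
    have h6 : (MulAut.congr e b) (e x) = e (b x) := by
      show e (b (e.symm (e x))) = _
      rw [e.symm_apply_apply]
    rw [h6] at h5
    exact h5

/-- the forms of the three characters -/
theorem inv_of_form {n : ℕ} (hn : 7 ≤ n) (f : ℕ → ℕ → ℂ) (a : MulAut (alternatingGroup (Fin n)))
    (x : alternatingGroup (Fin n)) :
    f (nf (Fin n) (a x)) (nu (Fin n) (a x)) = f (nf (Fin n) x) (nu (Fin n) x) := by
  obtain ⟨σ, rfl⟩ := (S2119.result n (by omega) (by omega)).2 a
  have h1 : ((MulAut.conjNormal σ x : alternatingGroup (Fin n)) : Equiv.Perm (Fin n)) = σ * x * σ⁻¹ :=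
    MulAut.conjNormal_apply σ x
  have h2 : ∀ j : Fin n, (MulAut.conjNormal σ x : alternatingGroup (Fin n)) • j = σ ((x : Equiv.Perm (Fin n)) (σ⁻¹ j)) := by
    intro j
    show ((MulAut.conjNormal σ x : alternatingGroup (Fin n)) : Equiv.Perm (Fin n)) j = _
    rw [h1]
    rfl
  have h3 : ∀ j : Fin n, x • j = (x : Equiv.Perm (Fin n)) j := fun j => rfl
  have hf : nf (Fin n) (MulAut.conjNormal σ x : alternatingGroup (Fin n)) = nf (Fin n) x := by
    unfold nf
    refine Nat.card_congr (Equiv.subtypeEquiv σ⁻¹ fun j => ?_)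
    rw [h2, h3]
    constructor
    · intro h
      exact (Equiv.Perm.eq_inv_iff_eq).2 h
    · intro h
      rw [h]
      exact σ.apply_symm_apply j
  have hu : nu (Fin n) (MulAut.conjNormal σ x : alternatingGroup (Fin n)) = nu (Fin n) x := by
    unfold nu
    refine Nat.card_congr (Equiv.subtypeEquiv σ⁻¹ fun j => ?_)
    have h4 : σ⁻¹ (σ ((x : Equiv.Perm (Fin n)) (σ⁻¹ j))) = (x : Equiv.Perm (Fin n)) (σ⁻¹ j) :=
      σ.symm_apply_apply _
    rw [h2, h2]
    simp only [h3]
    rw [h4]
    constructor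
    · rintro ⟨h, h'⟩
      exact ⟨fun h5 => h ((Equiv.Perm.eq_inv_iff_eq).1 h5), (Equiv.Perm.eq_inv_iff_eq).2 h'⟩
    · rintro ⟨h, h'⟩
      exact ⟨fun h5 => h ((Equiv.Perm.eq_inv_iff_eq).2 h5), (Equiv.Perm.eq_inv_iff_eq).1 h'⟩
  rw [hf, hu]

theorem ratInv_alt {n : ℕ} (hn : 7 ≤ n) (B : Subgroup (MulAut (alternatingGroup (Fin n)))) :
    RatInv (alternatingGroup (Fin n)) B := by
  classical
  have h1 : IsMultiplyPretransitive (alternatingGroup (Fin n)) (Fin n) (Nat.card (Fin n) - 2) :=
    alternatingGroup.isMultiplyPretransitive (Fin n)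
  have h2 : IsMultiplyPretransitive (alternatingGroup (Fin n)) (Fin n) 4 :=
    isMultiplyPretransitive_of_le (n := Nat.card (Fin n) - 2) (by rw [Nat.card_fin]; omega)
      (Nat.sub_le _ _)
  rcases Nat.even_or_odd n with he | ho
  · -- `n` even
    have h3 := irr_one (G := alternatingGroup (Fin n)) (Ω := Fin n) (by rw [Nat.card_fin]; omega) h2
    have hone : (fun g : alternatingGroup (Fin n) => (nf (Fin n) g : ℂ) - 1) 1 = ((n - 1 : ℕ) : ℂ) := by
      simp only
      rw [nf_one, Nat.card_fin, Nat.cast_sub (by omega)]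
      norm_num
    refine ⟨_, h3, ?_, ⟨_, ?_, hone⟩, fun g => ⟨(nf (Fin n) g : ℚ) - 1, by push_cast; rfl⟩, ?_⟩
    · intro h5
      have h6 := hone.symm.trans (congrFun h5 1)
      rw [Pi.one_apply] at h6
      have h7 : n - 1 = 1 := by exact_mod_cast h6
      omega
    · obtain ⟨r, hr⟩ := he
      exact ⟨r - 1, by omega⟩
    · intro b _ x
      exact inv_of_form hn (fun i _ => (i : ℂ) - 1) b x
  · rw [Nat.odd_iff] at ho
    by_cases h4 : n % 4 = 1
    · have h3 := irr_a (alternatingGroup (Fin n)) (Fin n) (by rw [Nat.card_fin]; omega) h2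
      have hone : ((fun g : alternatingGroup (Fin n) => ((nf (Fin n) g : ℂ) ^ 2 - 3 * nf (Fin n) g + nu (Fin n) g) / 2)) 1
          = ((n * ((n - 3) / 2) : ℕ) : ℂ) := by
        simp only
        rw [nf_one, nu_one, Nat.card_fin]
        have h5 : ((n : ℕ) : ℂ) = 2 * ((n - 3) / 2 : ℕ) + 3 := by
          have : n = 2 * ((n - 3) / 2) + 3 := by omega
          exact_mod_cast this
        push_cast
        generalize (((n - 3) / 2 : ℕ) : ℂ) = t at h5
        rw [h5]
        ring
      refine ⟨_, h3, ?_, ⟨_, ?_, hone⟩, fun g => ⟨(((nf (Fin n) g : ℚ)) ^ 2 - 3 * nf (Fin n) g + nu (Fin n) g) / 2, by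
        push_cast; rfl⟩, ?_⟩
      · intro h5
        have h6 := hone.symm.trans (congrFun h5 1)
        rw [Pi.one_apply] at h6
        have h7 : n * ((n - 3) / 2) = 1 := by exact_mod_cast h6
        have h8 := Nat.eq_one_of_mul_eq_one_right h7
        omega
      · rw [Nat.odd_mul]
        constructor
        · rw [Nat.odd_iff]; omega
        · rw [Nat.odd_iff]; omega
      · intro b _ x
        exact inv_of_form hn (fun i j => ((i : ℂ) ^ 2 - 3 * i + j) / 2) b x
    · have h3 := irr_b (alternatingGroup (Fin n)) (Fin n) (by rw [Nat.card_fin]; omega) h2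
      have hone : ((fun g : alternatingGroup (Fin n) =>
          ((nf (Fin n) g : ℂ) ^ 2 - 3 * nf (Fin n) g + 2 - nu (Fin n) g) / 2)) 1
          = (((n - 2) * ((n - 1) / 2) : ℕ) : ℂ) := by
        simp only
        rw [nf_one, nu_one, Nat.card_fin]
        have h5 : ((n : ℕ) : ℂ) = 2 * ((n - 1) / 2 : ℕ) + 1 := by
          have : n = 2 * ((n - 1) / 2) + 1 := by omega
          exact_mod_cast this
        have h6 : ((n - 2 : ℕ) : ℂ) = (n : ℂ) - 2 := by
          rw [Nat.cast_sub (by omega)]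
          norm_num
        push_cast
        rw [h6]
        generalize (((n - 1) / 2 : ℕ) : ℂ) = t at h5
        rw [h5]
        ring
      refine ⟨_, h3, ?_, ⟨_, ?_, hone⟩, fun g => ⟨(((nf (Fin n) g : ℚ)) ^ 2 - 3 * nf (Fin n) g + 2 - nu (Fin n) g) / 2, by
        push_cast; rfl⟩, ?_⟩
      · intro h5
        have h6 := hone.symm.trans (congrFun h5 1)
        rw [Pi.one_apply] at h6
        have h7 : (n - 2) * ((n - 1) / 2) = 1 := by exact_mod_cast h6
        have h8 := Nat.eq_one_of_mul_eq_one_right h7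
        omega
      · rw [Nat.odd_mul]
        constructor
        · rw [Nat.odd_iff]; omega
        · rw [Nat.odd_iff]; omega
      · intro b _ x
        exact inv_of_form hn (fun i j => ((i : ℂ) ^ 2 - 3 * i + 2 - j) / 2) b x

/-- **`Row2` for the alternating groups of degree at least 7** -/
theorem row2_alt {n : ℕ} (hn : 7 ≤ n) {K : Type u} [Group K] [Finite K]
    (h : Nonempty (K ≃* alternatingGroup (Fin n))) : Row2 K := by
  obtain ⟨e⟩ := h
  exact row2_of fun B _ => RatInv.congr e (ratInv_alt hn _)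

end Cfsg.Agent.H637.CY
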