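import Cfsg.Agent.H637.CY.Pow

/-!
# S4829, `p = 2`: elements conjugate to their powers of odd multiplicative order (helper637)

`OP x` : `x` is conjugate to `x ^ k` for all `k` of odd order modulo `|S|`.

* `OP.of_240` : `x ^ 240 = 1`;
* `OP.of_conj` : `x ^ n = 1`, `n ∣ |S|`, `x` conjugate to `x ^ j`, `j` generates the odd part of `(ℤ / n)ˣ` (a check);
* `row2_of_OP`.
-/

set_option autoImplicit false

namespace Cfsg.Agent.H637.CY

open Cfsg Cfsg.Agent.H770.CY

universe u v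

/-- `x` is conjugate to its powers of odd multiplicative order -/
def OP {S : Type u} [Group S] (x : S) : Prop :=
  ∀ k : ℕ, k.Coprime (Nat.card S) → (∃ m : ℕ, Odd m ∧ k ^ m ≡ 1 [MOD Nat.card S]) → IsConj x (x ^ k)

theorem isConj_pow {S : Type u} [Group S] {x y : S} (h : IsConj x y) (n : ℕ) : IsConj (x ^ n) (y ^ n) := by
  obtain ⟨c, rfl⟩ := isConj_iff.1 h
  exact isConj_iff.2 ⟨c, by rw [conj_pow]⟩

theorem OP.conj {S : Type u} [Group S] {x y : S} (h : OP x) (hc : IsConj x y) : OP y := fun k hk hm =>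
  hc.symm.trans ((h k hk hm).trans (isConj_pow hc k))

theorem OP.one {S : Type u} [Group S] : OP (1 : S) := fun k _ _ => by
  rw [one_pow]

theorem OP.inv {S : Type u} [Group S] {x : S} (h : OP x) : OP x⁻¹ := fun k hk hm => by
  obtain ⟨c, hc⟩ := isConj_iff.1 (h k hk hm)
  refine isConj_iff.2 ⟨c, ?_⟩
  rw [inv_pow, ← hc]
  group

theorem OP.pow {S : Type u} [Group S] {x : S} (h : OP x) (n : ℕ) : OP (x ^ n) := fun k hk hm => by
  rw [← pow_mul, mul_comm n k, pow_mul]
  exact isConj_pow (h k hk hm) n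

theorem OP.congr {S : Type u} {T : Type v} [Group S] [Group T] (e : S ≃* T) {x : S} (h : OP x) : OP (e x) :=
  fun k hk hm => by
    rw [← Nat.card_congr e.toEquiv] at hk hm
    obtain ⟨c, hc⟩ := isConj_iff.1 (h k hk hm)
    refine isConj_iff.2 ⟨e c, ?_⟩
    rw [← map_pow, ← hc, map_mul, map_mul, map_inv]

/-- all elements `k < n` of the interval prime to `n` satisfy the test -/
def chkOP (n r j : ℕ) : Bool :=
  (List.range n).all fun k => !(Nat.beq (Nat.gcd k n) 1) ||
    (Nat.beq (k ^ (64 * r) % n) (1 % n) &&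
      (!(Nat.beq (k ^ r % n) (1 % n)) || (List.range n).any fun i => Nat.beq (j ^ i % n) k))

theorem chkOP_spec {n r j : ℕ} (h : chkOP n r j = true) {k : ℕ} (hk : k < n) (hc : k.Coprime n) :
    k ^ (64 * r) % n = 1 % n ∧ (k ^ r % n = 1 % n → ∃ i, j ^ i % n = k) := by
  have h1 := List.all_eq_true.1 h k (List.mem_range.2 hk)
  have e : Nat.beq (Nat.gcd k n) 1 = true := by rw [show Nat.gcd k n = 1 from hc]; rfl
  rw [e] at h1
  simp only [Bool.not_true, Bool.false_or, Bool.and_eq_true, Bool.or_eq_true, Bool.not_eq_true'] at h1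
  refine ⟨Nat.eq_of_beq_eq_true h1.1, fun h2 => ?_⟩
  rcases h1.2 with h3 | h3
  · rw [h2, Nat.beq_refl] at h3
    exact absurd h3 (by decide)
  · obtain ⟨i, -, hi⟩ := List.any_eq_true.1 h3
    exact ⟨i, Nat.eq_of_beq_eq_true hi⟩

section

variable {S : Type u} [Group S] {x : S}

theorem isConj_pow_pow {j : ℕ} (hc : IsConj x (x ^ j)) : ∀ i : ℕ, IsConj x (x ^ j ^ i)
  | 0 => by rw [pow_zero, pow_one]
  | i + 1 => by
    rw [pow_succ, mul_comm, pow_mul]
    exact hc.trans (isConj_pow (isConj_pow_pow hc i) j |> fun h => by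
      rw [← pow_mul, mul_comm, pow_mul] at h
      exact h)

theorem OP.of_conj {n r j : ℕ} (hn : x ^ n = 1) (hpos : 0 < n) (hd : n ∣ Nat.card S)
    (hc : IsConj x (x ^ j)) (h : chkOP n r j = true) : OP x := by
  intro k hk ⟨m, hm, hkm⟩
  have hkn : k.Coprime n := Nat.Coprime.coprime_dvd_right hd hk
  have hkm' : k ^ m ≡ 1 [MOD n] := hkm.of_dvd hd
  obtain ⟨h1, h2⟩ := chkOP_spec h (Nat.mod_lt k hpos) (by
    rw [Nat.Coprime, ← Nat.gcd_rec, Nat.gcd_comm]
    exact hkn)
  have h3 : k ^ (64 * r) ≡ 1 [MOD n] := ((Nat.mod_modEq k n).pow (64 * r)).symm.trans h1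
  have hnz : NeZero n := ⟨hpos.ne'⟩
  let u : (ZMod n)ˣ := ZMod.unitOfCoprime k hkn
  have hu : ∀ t : ℕ, k ^ t ≡ 1 [MOD n] ↔ u ^ t = 1 := by
    intro t
    rw [← ZMod.natCast_eq_natCast_iff, Units.ext_iff, Units.val_pow_eq_pow_val, ZMod.coe_unitOfCoprime,
      Units.val_one]
    push_cast
    rfl
  have h4 : orderOf u ∣ m := orderOf_dvd_of_pow_eq_one ((hu m).1 hkm')
  have h5 : orderOf u ∣ 64 * r := orderOf_dvd_of_pow_eq_one ((hu _).1 h3)
  have h6 : (orderOf u).Coprime 64 :=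
    Nat.Coprime.pow_right 6 (Nat.coprime_two_right.2 (hm.of_dvd_nat h4) : (orderOf u).Coprime (2))
  have h7 : k ^ r ≡ 1 [MOD n] := (hu r).2 (orderOf_dvd_iff_pow_eq_one.1 (h6.dvd_of_dvd_mul_left h5))
  obtain ⟨i, hi⟩ := h2 (((Nat.mod_modEq k n).pow r).trans h7)
  have h8 : x ^ k = x ^ j ^ i := by
    rw [← Nat.mod_add_div k n, pow_add, pow_mul, hn, one_pow, mul_one, ← hi]
    conv_rhs => rw [← Nat.mod_add_div (j ^ i) n, pow_add, pow_mul, hn, one_pow, mul_one]
  rw [h8]
  exact isConj_pow_pow hc i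

theorem OP.of_240 [Finite S] (h : x ^ 240 = 1) : OP x := by
  have hd : orderOf x ∣ 240 := orderOf_dvd_of_pow_eq_one h
  have key : ∀ n ∈ Nat.divisors 240, chkOP n 1 1 = true := by decide +kernel
  refine OP.of_conj (n := orderOf x) (r := 1) (j := 1) (pow_orderOf_eq_one x) (orderOf_pos x) (orderOf_dvd_natCard x)
    (by rw [pow_one]) (key _ ?_)
  rw [Nat.mem_divisors]
  exact ⟨hd, by norm_num⟩

theorem OP.of_order [Finite S] {n : ℕ} (h : orderOf x = n) (hn : n ∣ 240) : OP x :=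
  OP.of_240 (orderOf_dvd_iff_pow_eq_one.1 (h ▸ hn))

end

/-- **(T1)** -/
theorem row2_of_OP {S : Type u} [Group S] [Finite S] (heven : Even (Nat.card S)) (h : ∀ x : S, OP x) : Row2 S :=
  row2_of_isConj heven fun x k hk hm => h x k hk hm

theorem chk7 : chkOP 7 3 2 = true := by decide +kernel
theorem chk9 : chkOP 9 3 4 = true := by decide +kernel
theorem chk11 : chkOP 11 5 3 = true := by decide +kernel
theorem chk13 : chkOP 13 3 3 = true := by decide +kernel
theorem chk14 : chkOP 14 3 9 = true := by decide +kernel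
theorem chk18 : chkOP 18 3 7 = true := by decide +kernel
theorem chk21 : chkOP 21 3 4 = true := by decide +kernel
theorem chk22 : chkOP 22 5 3 = true := by decide +kernel
theorem chk28 : chkOP 28 3 9 = true := by decide +kernel
theorem chk31 : chkOP 31 15 7 = true := by decide +kernel

end Cfsg.Agent.H637.CY
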