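import Cfsg.Agent.H637.CY.Alt
import Cfsg.Agent.H637.CY.OP
import Cfsg.Agent.H776.CY.Congr

/-!
# S4829, `p = 2`: the alternating row (helper637)
-/

set_option autoImplicit false

namespace Cfsg.Agent.H637.CY

open Cfsg Cfsg.Agent.H770.CY

universe u

theorem perm6_pow {n : ℕ} (hn : n ≤ 6) (σ : Equiv.Perm (Fin n)) : σ ^ 240 = 1 := by
  rw [← orderOf_dvd_iff_pow_eq_one, ← Equiv.Perm.lcm_cycleType]
  refine Multiset.lcm_dvd.2 fun a ha => ?_
  have h1 : a ≤ 6 := by
    refine (Equiv.Perm.le_card_support_of_mem_cycleType ha).trans ?_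
    refine (Finset.card_le_univ _).trans ?_
    rw [Fintype.card_fin]
    exact hn
  have h2 : 2 ≤ a := Equiv.Perm.two_le_of_mem_cycleType ha
  interval_cases a <;> norm_num

/-- `A_5`, `A_6` -/
theorem row2_alt56 {n : ℕ} (hn : 5 ≤ n) (hn6 : n ≤ 6) {K : Type u} [Group K] [Finite K]
    (h : Nonempty (K ≃* alternatingGroup (Fin n))) : Row2 K := by
  obtain ⟨e⟩ := h
  have h1 : Even (Nat.card K) := by
    rw [Nat.card_congr e.toEquiv]
    have h2 : 2 * Nat.card (alternatingGroup (Fin n)) = Nat.factorial n := by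
      have : Nontrivial (Fin n) := Fin.nontrivial_iff_two_le.2 (by omega)
      rw [Nat.card_eq_fintype_card, two_mul_card_alternatingGroup, Fintype.card_perm, Fintype.card_fin]
    have h3 : n = 5 ∨ n = 6 := by omega
    rcases h3 with rfl | rfl
    · have : Nat.factorial 5 = 120 := rfl
      exact ⟨30, by omega⟩
    · have : Nat.factorial 6 = 720 := rfl
      exact ⟨180, by omega⟩
  refine row2_of_OP h1 fun x => OP.of_240 ?_
  have h2 : (e x) ^ 240 = 1 := by
    ext1
    rw [Subgroup.coe_pow, perm6_pow hn6]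
    rfl
  exact e.injective (by rw [map_pow, h2, map_one])

/-- **the alternating row** -/
theorem row2_alternating : RowFor2 (fun X _ => IsAlternating X) := by
  intro X _ _ _ _ hX
  obtain ⟨n, hn, h⟩ := hX
  by_cases h7 : 7 ≤ n
  · exact row2_alt h7 h
  · exact row2_alt56 hn (by omega) h

end Cfsg.Agent.H637.CY
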