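import Cfsg.Agent.H601.R2.Base
import Cfsg.Agent.H636.Gow.Par
import Cfsg.Agent.S0145

/-!
# S4829, `p = 2`: the power map lemma (T1) (helper637)

* `ratInv_of_pow` : if the power maps of odd order fix all nontrivial irreducible characters of odd degree then every
  `2`-group of automorphisms fixes a rational valued one;
* `row2_of_isConj` : in particular if `x ^ k` is conjugate to `x` for all `k` of odd order modulo `|S|`.
-/

set_option autoImplicit false

namespace Cfsg.Agent.H637.CY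

open Cfsg Cfsg.Agent.H601.R2 Cfsg.Agent.H770.CY Cfsg.Agent.H636.Gow Cfsg.Agent.H707.OddLift MulAction
open Cfsg.Agent.Characters.Core Cfsg.Agent.Characters

universe u

section

variable {S : Type u} [Group S] [Finite S]

theorem deg_of (χ : IrrCharacter S) : ∃ d : ℕ, (χ : S → ℂ) 1 = d := by
  obtain ⟨d, -, hd⟩ := isIrr_apply_one χ.2
  exact ⟨d, hd⟩

/-- the number of nontrivial irreducible characters of odd degree is odd -/
theorem odd_card_odd (heven : Even (Nat.card S)) :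
    Odd (Nat.card {χ : IrrCharacter S // (χ : S → ℂ) ≠ 1 ∧ OddDeg (χ : S → ℂ)}) := by
  classical
  have := Fintype.ofFinite S
  have := finite_irr (G := S)
  have := Fintype.ofFinite (IrrCharacter S)
  choose d hd using deg_of (S := S)
  have hsum : ∑ χ : IrrCharacter S, (d χ : ℤ) ^ 2 = Nat.card S := by
    have h := S0145.sum_irr_mul_conj (G := S) 1 1
    rw [if_pos (IsConj.refl 1)] at h
    have h2 : Nat.card (Subgroup.centralizer ({1} : Set S)) = Nat.card S := by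
      have : Subgroup.centralizer ({1} : Set S) = ⊤ := by
        rw [eq_top_iff]
        intro g _
        rw [Subgroup.mem_centralizer_iff]
        rintro _ rfl
        simp
      rw [this, Nat.card_congr Subgroup.topEquiv.toEquiv]
    rw [h2] at h
    have h3 : ((∑ χ : IrrCharacter S, (d χ : ℤ) ^ 2 : ℤ) : ℂ) = ((Nat.card S : ℤ) : ℂ) := by
      push_cast
      rw [← h]
      refine Finset.sum_congr rfl fun χ _ => ?_
      rw [hd]
      simp [sq]
    exact_mod_cast h3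
  have h4 : ¬ Odd (∑ χ : IrrCharacter S, (d χ : ℤ) ^ 2) := by
    rw [hsum, Int.not_odd_iff_even]
    exact_mod_cast heven
  rw [odd_int_sum, Nat.not_odd_iff_even] at h4
  have hU : ∀ χ : IrrCharacter S, OddDeg (χ : S → ℂ) ↔ Odd ((d χ : ℤ) ^ 2) := by
    intro χ
    rw [Int.odd_pow' two_ne_zero, Int.odd_coe_nat]
    constructor
    · rintro ⟨e, he, h⟩
      rw [hd] at h
      have : d χ = e := by exact_mod_cast h
      rwa [this]
    · exact fun h => ⟨d χ, h, hd χ⟩
  obtain ⟨t, ht⟩ : ∃ t : IrrCharacter S, t = ⟨1, isIrr_one⟩ := ⟨_, rfl⟩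
  have htU : t ∈ Finset.univ.filter (fun χ : IrrCharacter S => Odd ((d χ : ℤ) ^ 2)) := by
    rw [Finset.mem_filter]
    refine ⟨Finset.mem_univ _, (hU t).1 ⟨1, odd_one, ?_⟩⟩
    rw [ht]
    simp
  have hcard : Nat.card {χ : IrrCharacter S // (χ : S → ℂ) ≠ 1 ∧ OddDeg (χ : S → ℂ)} =
      ((Finset.univ.filter (fun χ : IrrCharacter S => Odd ((d χ : ℤ) ^ 2))).erase t).card := by
    rw [Nat.card_eq_fintype_card, Fintype.card_subtype]
    congr 1
    ext χ
    rw [Finset.mem_filter, Finset.mem_erase, Finset.mem_filter, hU]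
    constructor
    · rintro ⟨-, h1, h2⟩
      exact ⟨fun h => h1 (by rw [h, ht]), Finset.mem_univ _, h2⟩
    · rintro ⟨h1, -, h2⟩
      refine ⟨Finset.mem_univ _, fun h => h1 ?_, h2⟩
      rw [ht]
      exact Subtype.ext h
  rw [hcard, Finset.card_erase_of_mem htU]
  obtain ⟨r, hr⟩ := h4
  have hpos : 0 < (Finset.univ.filter (fun χ : IrrCharacter S => Odd ((d χ : ℤ) ^ 2))).card :=
    Finset.card_pos.2 ⟨t, htU⟩
  exact ⟨r - 1, by omega⟩

/-- the characters fixed by `B` -/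
def TB (B : Subgroup (MulAut S)) : Type u :=
  {χ : IrrCharacter S // ((χ : S → ℂ) ≠ 1 ∧ OddDeg (χ : S → ℂ)) ∧ ∀ b ∈ B, ∀ x : S, (χ : S → ℂ) (b x) = (χ : S → ℂ) x}

theorem odd_card_TB (heven : Even (Nat.card S)) {B : Subgroup (MulAut S)} (hB : IsPGroup 2 B) :
    Odd (Nat.card (TB B)) := by
  classical
  have := finite_irr (G := S)
  have hst : ∀ (a : MulAut S) (χ : {χ : IrrCharacter S // (χ : S → ℂ) ≠ 1 ∧ OddDeg (χ : S → ℂ)}),
      ((fun x => (χ.1 : S → ℂ) (a⁻¹ x)) : S → ℂ) ≠ 1 ∧ OddDeg ((fun x => (χ.1 : S → ℂ) (a⁻¹ x)) : S → ℂ) := by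
    intro a χ
    constructor
    · intro h
      apply χ.2.1
      funext y
      have h1 := congrFun h (a y)
      simp only [MulAut.inv_apply_self] at h1
      exact h1
    · obtain ⟨d, hd, h1⟩ := χ.2.2
      exact ⟨d, hd, by simp only [map_one]; exact h1⟩
  let act : MulAction ↥B {χ : IrrCharacter S // (χ : S → ℂ) ≠ 1 ∧ OddDeg (χ : S → ℂ)} :=
    { smul := fun b χ => ⟨⟨fun x => (χ.1 : S → ℂ) ((b : MulAut S)⁻¹ x),
        isIrr_comp ((b : MulAut S)⁻¹ : MulAut S).toMonoidHom ((b : MulAut S)⁻¹ : MulAut S).surjective χ.1.2⟩, hst b χ⟩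
      one_smul := by
        intro χ
        apply Subtype.ext
        apply Subtype.ext
        funext x
        show (χ.1 : S → ℂ) ((((1 : B) : MulAut S)⁻¹ : MulAut S) x) = (χ.1 : S → ℂ) x
        simp
      mul_smul := by
        intro a b χ
        apply Subtype.ext
        apply Subtype.ext
        funext x
        show (χ.1 : S → ℂ) ((((a * b : B) : MulAut S)⁻¹ : MulAut S) x) =
          (χ.1 : S → ℂ) (((b : MulAut S)⁻¹ : MulAut S) (((a : MulAut S)⁻¹ : MulAut S) x))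
        rw [Subgroup.coe_mul, mul_inv_rev, MulAut.mul_apply] }
  have h1 := hB.card_modEq_card_fixedPoints {χ : IrrCharacter S // (χ : S → ℂ) ≠ 1 ∧ OddDeg (χ : S → ℂ)}
  have h2 : Nat.card (TB B) =
      Nat.card (fixedPoints ↥B {χ : IrrCharacter S // (χ : S → ℂ) ≠ 1 ∧ OddDeg (χ : S → ℂ)}) := by
    refine Nat.card_congr ⟨fun χ => ⟨⟨χ.1, χ.2.1⟩, ?_⟩, fun χ => ⟨χ.1.1, χ.1.2, ?_⟩, fun _ => rfl, fun _ => rfl⟩
    · intro b
      apply Subtype.ext
      apply Subtype.ext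
      funext x
      exact χ.2.2 _ (B.inv_mem b.2) x
    · intro b hb x
      have h3 := χ.2 ⟨b⁻¹, B.inv_mem hb⟩
      have h4 := congrFun (congrArg (fun y : {χ : IrrCharacter S // (χ : S → ℂ) ≠ 1 ∧ OddDeg (χ : S → ℂ)} =>
        (y.1 : S → ℂ)) h3) x
      have h5 : (χ.1.1 : S → ℂ) (((b⁻¹)⁻¹ : MulAut S) x) = (χ.1.1 : S → ℂ) x := h4
      rwa [inv_inv] at h5
  rw [h2, Nat.odd_iff]
  have h3 := Nat.odd_iff.1 (odd_card_odd heven)
  rw [← h3]
  exact h1.symm

/-- **Power maps of odd order.** -/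
theorem ratInv_of_pow (heven : Even (Nat.card S)) {B : Subgroup (MulAut S)} (hB : IsPGroup 2 B)
    (hpow : ∀ χ : IrrCharacter S, (χ : S → ℂ) ≠ 1 → OddDeg (χ : S → ℂ) →
      ∀ k : ℕ, k.Coprime (Nat.card S) → (∃ m : ℕ, Odd m ∧ k ^ m ≡ 1 [MOD Nat.card S]) →
        ∀ g : S, (χ : S → ℂ) (g ^ k) = (χ : S → ℂ) g) : RatInv S B := by
  classical
  have := finite_irr (G := S)
  have hfT : Finite (TB B) := Subtype.finite
  let _ := H707.Block.powAct (G := S)
  have hst : ∀ (u : (ZMod (Nat.card S))ˣ) (χ : TB B),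
      ((((u • χ.1 : IrrCharacter S) : S → ℂ) ≠ 1 ∧ OddDeg ((u • χ.1 : IrrCharacter S) : S → ℂ)) ∧
        ∀ b ∈ B, ∀ x : S, ((u • χ.1 : IrrCharacter S) : S → ℂ) (b x) = ((u • χ.1 : IrrCharacter S) : S → ℂ) x) := by
    intro u χ
    obtain ⟨⟨h1, d, hd, hd1⟩, h2⟩ := χ.2
    refine ⟨⟨fun h => h1 ?_, d, hd, ?_⟩, fun b hb x => ?_⟩
    · have h3 : (u⁻¹ • (u • χ.1) : IrrCharacter S) = χ.1 := inv_smul_smul u χ.1
      rw [← h3]
      funext g
      rw [H707.Block.pow_smul_apply, congrFun h]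
      rfl
    · rw [H707.Block.pow_smul_apply, one_pow, hd1]
    · rw [H707.Block.pow_smul_apply, H707.Block.pow_smul_apply, ← map_pow]
      exact h2 b hb _
  let _ : MulAction (ZMod (Nat.card S))ˣ (TB B) :=
    { smul := fun u χ => ⟨u • χ.1, hst u χ⟩
      one_smul := fun χ => Subtype.ext (one_smul _ _)
      mul_smul := fun u v χ => Subtype.ext (mul_smul _ _ _) }
  obtain ⟨P⟩ : Nonempty (Sylow 2 (ZMod (Nat.card S))ˣ) := inferInstance
  have hnz : NeZero (Nat.card S) := ⟨Nat.card_pos.ne'⟩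
  obtain ⟨a, ha⟩ := P.2.nonempty_fixed_point_of_prime_not_dvd_card (α := TB B)
    (fun h => (Nat.not_even_iff_odd.2 (odd_card_TB heven hB)) (even_iff_two_dvd.2 h))
  obtain ⟨⟨h2, h3⟩, hinv⟩ := a.2
  -- elements of odd order
  have hoddfix : ∀ u : (ZMod (Nat.card S))ˣ, Odd (orderOf u) → u • a.1 = a.1 := by
    intro u hu
    apply Subtype.ext
    funext g
    rw [H707.Block.pow_smul_apply]
    refine hpow a.1 h2 h3 _ (ZMod.val_coe_unit_coprime u) ⟨orderOf u, hu, ?_⟩ g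
    rw [← ZMod.natCast_eq_natCast_iff]
    push_cast
    rw [ZMod.natCast_zmod_val, ← Units.val_pow_eq_pow_val, pow_orderOf_eq_one, Units.val_one]
  have htwofix : ∀ u : (ZMod (Nat.card S))ˣ, (∃ t : ℕ, orderOf u = 2 ^ t) → u • a.1 = a.1 := by
    rintro u ⟨t, ht⟩
    have hu : u ∈ (P : Subgroup (ZMod (Nat.card S))ˣ) := by
      have h4 : IsPGroup 2 (Subgroup.zpowers u) := IsPGroup.of_card (by rw [Nat.card_zpowers, ht])
      obtain ⟨Q, hQ⟩ := h4.exists_le_sylow
      have h5 : Q = P := by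
        obtain ⟨c, hc⟩ := MulAction.exists_smul_eq (ZMod (Nat.card S))ˣ Q P
        rw [← hc]
        apply Sylow.ext
        rw [Sylow.coe_subgroup_smul]
        exact (Subgroup.Normal.conj_smul_eq_self c _).symm
      rw [← h5]
      exact hQ (Subgroup.mem_zpowers u)
    exact congrArg Subtype.val (ha ⟨u, hu⟩)
  have hfixall : ∀ m : ℕ, m.Coprime (Nat.card S) → ∀ g : S, (a.1 : S → ℂ) (g ^ m) = (a.1 : S → ℂ) g := by
    intro m hm g
    obtain ⟨u, hu⟩ : ∃ u : (ZMod (Nat.card S))ˣ, u = ZMod.unitOfCoprime m hm := ⟨_, rfl⟩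
    have hfix : u • a.1 = a.1 := by
      obtain ⟨t, r, hr, hn⟩ : ∃ t r : ℕ, Odd r ∧ orderOf u = 2 ^ t * r := by
        obtain ⟨t, r, hr, hn⟩ := Nat.exists_eq_two_pow_mul_odd (orderOf_pos u).ne'
        exact ⟨t, r, hr, hn⟩
      have hcop : (2 ^ t).Coprime r := Nat.Coprime.pow_left _ (Nat.coprime_two_left.2 hr)
      have hA : u ^ (2 ^ t) • a.1 = a.1 := by
        apply hoddfix
        rw [orderOf_pow, hn, Nat.gcd_eq_right (Dvd.intro _ rfl), Nat.mul_div_cancel_left _ (by positivity)]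
        exact hr
      have hB : u ^ r • a.1 = a.1 := by
        apply htwofix
        refine ⟨t, ?_⟩
        rw [orderOf_pow, hn, Nat.gcd_eq_right (Dvd.intro_left _ rfl), Nat.mul_div_cancel _ hr.pos]
      have h6 : u ^ (2 ^ t) ∈ MulAction.stabilizer (ZMod (Nat.card S))ˣ a.1 := hA
      have h7 : u ^ r ∈ MulAction.stabilizer (ZMod (Nat.card S))ˣ a.1 := hB
      have h8 : u ∈ MulAction.stabilizer (ZMod (Nat.card S))ˣ a.1 := by
        have h9 := Nat.gcd_eq_gcd_ab (2 ^ t) r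
        rw [Nat.coprime_iff_gcd_eq_one.1 hcop] at h9
        have h10 : u = (u ^ (2 ^ t)) ^ (Nat.gcdA (2 ^ t) r) * (u ^ r) ^ (Nat.gcdB (2 ^ t) r) := by
          rw [← zpow_natCast, ← zpow_natCast, ← zpow_mul, ← zpow_mul, ← zpow_add, ← h9]
          simp
        rw [h10]
        exact mul_mem (zpow_mem h6 _) (zpow_mem h7 _)
      exact h8
    have h11 := congrFun (congrArg Subtype.val hfix) g
    rw [H707.Block.pow_smul_apply, hu, ZMod.coe_unitOfCoprime, ZMod.val_natCast, pow_mod_natCard] at h11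
    exact h11
  refine ⟨a.1, a.1.2, h2, h3, fun g => ?_, hinv⟩
  rw [GaloisBasic.exists_rat_iff (isIrr_isCharacter a.1.2) g]
  exact fun m hm => hfixall m hm g

theorem row2_of_pow (heven : Even (Nat.card S))
    (hpow : ∀ χ : IrrCharacter S, (χ : S → ℂ) ≠ 1 → OddDeg (χ : S → ℂ) →
      ∀ k : ℕ, k.Coprime (Nat.card S) → (∃ m : ℕ, Odd m ∧ k ^ m ≡ 1 [MOD Nat.card S]) →
        ∀ g : S, (χ : S → ℂ) (g ^ k) = (χ : S → ℂ) g) : Row2 S :=
  row2_of fun _ hB => ratInv_of_pow heven hB hpow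

/-- **(T1)** `x ^ k` conjugate to `x` for all `k` of odd order modulo `|S|` -/
theorem row2_of_isConj (heven : Even (Nat.card S))
    (h : ∀ (x : S) (k : ℕ), k.Coprime (Nat.card S) → (∃ m : ℕ, Odd m ∧ k ^ m ≡ 1 [MOD Nat.card S]) →
      IsConj x (x ^ k)) : Row2 S := by
  refine row2_of_pow heven fun χ _ _ k hk hm g => ?_
  exact (classFunction_apply_eq (isIrr_isClassFunction χ.2) (h g k hk hm)).symm

end

end Cfsg.Agent.H637.CY
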